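import Mathlib

/-!
# Commuting subgroups with trivial centres generate their direct product (task 2326, helper964)
-/

set_option autoImplicit false

namespace Cfsg.Agent.H964.PiEq

open Subgroup

theorem exists_equiv {X Q : Type*} [Group X] [Group Q] {𝓐 : Set (Subgroup X)} (hfin : 𝓐.Finite) {k : ℕ} (hk : 𝓐.ncard = k)
    (hcomm : ∀ C ∈ 𝓐, ∀ D ∈ 𝓐, C ≠ D → ∀ x ∈ C, ∀ y ∈ D, x * y = y * x) (hc : ∀ C ∈ 𝓐, center C = ⊥)
    (htop : sSup 𝓐 = ⊤) (he : ∀ C ∈ 𝓐, Nonempty (C ≃* Q)) : Nonempty (X ≃* (Fin k → Q)) := by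
  classical
  have : Fintype 𝓐 := hfin.fintype
  let H : 𝓐 → Subgroup X := fun i => i.1
  have hcm : Pairwise fun i j : 𝓐 => ∀ x y : X, x ∈ H i → y ∈ H j → Commute x y := by
    intro i j hij x y hx hy
    exact hcomm i.1 i.2 j.1 j.2 (fun h => hij (Subtype.ext h)) x hx y hy
  let f : (∀ i, H i) →* X := Subgroup.noncommPiCoprod hcm
  have hind : iSupIndep H := by
    intro i
    rw [disjoint_iff, eq_bot_iff]
    rintro x ⟨hx1, hx2⟩
    have h1 : (⨆ (j) (_ : j ≠ i), H j) ≤ centralizer (H i : Set X) := by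
      refine iSup_le fun j => iSup_le fun hj => ?_
      intro y hy
      rw [mem_centralizer_iff]
      intro z hz
      exact (hcm hj y z hy hz).eq.symm
    have h2 := h1 hx2
    rw [mem_centralizer_iff] at h2
    have h3 : (⟨x, hx1⟩ : H i) ∈ center (H i) := by
      rw [mem_center_iff]
      intro g
      exact Subtype.ext (h2 g g.2)
    rw [hc i.1 i.2, mem_bot] at h3
    exact mem_bot.2 (congrArg Subtype.val h3)
  have hinj : Function.Injective f := Subgroup.injective_noncommPiCoprod_of_iSupIndep hind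
  have hsurj : Function.Surjective f := by
    rw [← MonoidHom.range_eq_top, Subgroup.noncommPiCoprod_range, ← htop, sSup_eq_iSup']
  let e1 : (∀ i, H i) ≃* X := MulEquiv.ofBijective f ⟨hinj, hsurj⟩
  let e2 : (∀ i, H i) ≃* (𝓐 → Q) := MulEquiv.piCongrRight fun i => (he i.1 i.2).some
  have hcard : Fintype.card 𝓐 = k := by
    rw [← hk, ← Nat.card_coe_set_eq, Nat.card_eq_fintype_card]
  let e3 : 𝓐 ≃ Fin k := Fintype.equivFinOfCardEq hcard
  exact ⟨e1.symm.trans (e2.trans (MulEquiv.arrowCongr e3 (MulEquiv.refl Q)))⟩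

end Cfsg.Agent.H964.PiEq
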